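import Groth.Agent.Lib.AffGrp19.AntiAff
import Groth.Agent.Lib.AlgGrpBasic19.Basic
import Groth.Agent.Lib.OrbitTop19.Closed
import Groth.Agent.Lib.AbRigid.KernelPair
import Mathlib.AlgebraicGeometry.AlgClosed.Basic
import Groth.Prelude.Def_AlgGrp

/-!
# Bundles trivialised by anti-affine extensions are homogeneous
-/

set_option autoImplicit false
set_option linter.style.haveILetI false
set_option backward.isDefEq.respectTransparency false
set_option backward.isDefEq.respectTransparency.types false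
set_option synthInstance.maxHeartbeats 400000
universe u

open CategoryTheory CategoryTheory.Limits MonoidalCategory CartesianMonoidalCategory MonObj AlgebraicGeometry

noncomputable section

namespace Groth.Agent.AntiBundle15

theorem homogeneous {k : Type u} [Field k] [IsAlgClosed k]
    (G X A : Over (Spec (CommRingCat.of k))) [GrpObj G] [IsAffine G.left] [GrpObj A] [IsSeparated A.hom]
    [LocallyOfFiniteType A.hom]
    (a : AlgGrp.Action G X) (π : X ⟶ A) (hinv : a.act ≫ π = snd G X ≫ π)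
    (hcart : IsPullback (snd G X) a.act π π)
    (E : Over (Spec (CommRingCat.of k))) [GrpObj E] [LocallyOfFiniteType E.hom] [QuasiCompact E.hom]
    (hE : Function.Bijective ((Scheme.ΓSpecIso (CommRingCat.of k)).inv ≫ E.hom.appTop).hom)
    (φ : E ⟶ A) [IsMonHom φ] [Flat φ.left] [Surjective φ.left]
    (Hk : Over (Spec (CommRingCat.of k))) (h : Hk ⟶ E) (hk : AlgGrp.IsKernel h φ)
    (σ : E ⟶ X) (hσ : σ ≫ π = φ)
    (t : 𝟙_ (Over (Spec (CommRingCat.of k))) ⟶ A) :
    ∃ ψ : X ≅ X, (G ◁ ψ.hom) ≫ a.act = a.act ≫ ψ.hom ∧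
      ψ.hom ≫ π = π ≫ (lift (𝟙 A) (toUnit A ≫ t) ≫ μ[A]) := by
  haveI := AbRigid.isSeparated_of_grpObj E
  have actπ : ∀ {T : Over (Spec (CommRingCat.of k))} (g : T ⟶ G) (x : T ⟶ X),
      (lift g x ≫ a.act) ≫ π = x ≫ π := fun {T} g x => by
    rw [Category.assoc, hinv, lift_snd_assoc]
  have free : ∀ {T : Over (Spec (CommRingCat.of k))} (g g' : T ⟶ G) (x : T ⟶ X),
      lift g x ≫ a.act = lift g' x ≫ a.act → g = g' := fun {T} g g' x e => by
    have h := hcart.hom_ext (k := lift g x) (l := lift g' x) (by rw [lift_snd, lift_snd]) e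
    simpa using congrArg (fun w => w ≫ fst G X) h
  -- the cocycle is constant in the anti-affine direction
  obtain ⟨c, hc1, hc2⟩ := hcart.exists_lift (fst E Hk ≫ σ) (((snd E Hk ≫ h) * fst E Hk) ≫ σ) (by
    rw [Category.assoc, Category.assoc, hσ, MonObj.mul_comp, Category.assoc, hk.w, ← Category.assoc, comp_toUnit,
      ← Hom.one_def, _root_.one_mul])
  obtain ⟨r, hr⟩ := ((AffGrp19.good_toAff E).whiskerRight Hk).exists_desc (c ≫ fst G X)
  obtain ⟨w, hw⟩ := AffGrp19.exists_const hE (AffGrp19.toAff E)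
  have key : ∀ {T : Over (Spec (CommRingCat.of k))} (s : T ⟶ E) (n : T ⟶ Hk),
      lift (lift (toUnit T ≫ w) n ≫ r) (s ≫ σ) ≫ a.act = ((n ≫ h) * s) ≫ σ := fun {T} s n => by
    have e1 : lift (toUnit T ≫ w) n ≫ r = lift s n ≫ c ≫ fst G X := by
      rw [← hr, ← Category.assoc (lift s n)]
      congr 1
      rw [hw]
      apply CartesianMonoidalCategory.hom_ext <;> simp
    have e2 : lift (lift s n ≫ c ≫ fst G X) (s ≫ σ) = lift s n ≫ c := by
      apply CartesianMonoidalCategory.hom_ext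
      · simp
      · simp [hc1]
    rw [e1, e2, Category.assoc, hc2, ← Category.assoc, MonObj.comp_mul, lift_snd_assoc, lift_fst]
  -- the cover
  obtain ⟨pr, hpr₀⟩ : ∃ pr : G ⊗ E ⟶ X, pr = (G ◁ σ) ≫ a.act := ⟨_, rfl⟩
  have hpb : IsPullback pr (snd G E) π φ := by
    have h2 := (AbRigid.isPullback_whiskerLeft σ G).flip.paste_horiz hcart.flip
    rw [hσ, ← hpr₀] at h2
    exact h2
  haveI : QuasiCompact φ.left := AlgGrpBasic19.quasiCompact_left φ
  haveI : Flat pr.left := MorphismProperty.of_isPullback (hpb.map (Over.forget _)).flip ‹Flat φ.left›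
  haveI : Surjective pr.left := MorphismProperty.of_isPullback (hpb.map (Over.forget _)).flip ‹Surjective φ.left›
  haveI : QuasiCompact pr.left := MorphismProperty.of_isPullback (hpb.map (Over.forget _)).flip ‹QuasiCompact φ.left›
  haveI : Epi pr := AlgGrpBasic19.epi_of_cover pr
  have hpr : ∀ {T : Over (Spec (CommRingCat.of k))} (g : T ⟶ G) (s : T ⟶ E),
      lift g s ≫ pr = lift g (s ≫ σ) ≫ a.act := fun {T} g s => by
    rw [hpr₀, lift_whiskerLeft_assoc]
  have hdesc : ∀ e : 𝟙_ (Over (Spec (CommRingCat.of k))) ⟶ E,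
      ∃ Ψ : X ⟶ X, pr ≫ Ψ = lift (fst G E) (snd G E * (toUnit _ ≫ e)) ≫ pr := fun e => by
    refine AlgGrpBasic19.exists_desc pr _ fun T p q hpq => ?_
    have hs : (p ≫ snd G E) ≫ φ = (q ≫ snd G E) ≫ φ := by
      rw [Category.assoc, Category.assoc, ← hpb.w, reassoc_of% hpq]
    let n : T ⟶ Hk := hk.lift ((q ≫ snd G E) * (p ≫ snd G E)⁻¹) (toUnit T) (by
      rw [MonObj.mul_comp, GrpObj.inv_comp, hs, mul_inv_cancel, Hom.one_def])
    have hn : q ≫ snd G E = (n ≫ h) * (p ≫ snd G E) := by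
      rw [hk.lift_fst, inv_mul_cancel_right]
    have hp : p = lift (p ≫ fst G E) (p ≫ snd G E) := by rw [← comp_lift, lift_fst_snd, Category.comp_id]
    have hq : q = lift (q ≫ fst G E) (q ≫ snd G E) := by rw [← comp_lift, lift_fst_snd, Category.comp_id]
    rw [hp, hq, hpr, hpr, hn, ← key, ← AlgGrpBasic19.act_mul a] at hpq
    have hg := free _ _ _ hpq
    rw [← Category.assoc p, ← Category.assoc q, comp_lift p, comp_lift q, MonObj.comp_mul p, MonObj.comp_mul q,
      ← Category.assoc p (toUnit _), ← Category.assoc q (toUnit _), comp_toUnit, comp_toUnit, hpr, hpr, hn,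
      _root_.mul_assoc, ← key, ← AlgGrpBasic19.act_mul a, hg]
  choose Ψ hΨ using hdesc
  have hcomp : ∀ e e', Ψ e ≫ Ψ e' = Ψ (e * e') := fun e e' => by
    rw [← cancel_epi pr, reassoc_of% hΨ e, hΨ e', hΨ (e * e'), ← Category.assoc, comp_lift, lift_fst,
      MonObj.comp_mul, lift_snd, ← Category.assoc _ (toUnit _), comp_toUnit, _root_.mul_assoc, ← MonObj.comp_mul]
  have hone : Ψ 1 = 𝟙 X := by
    rw [← cancel_epi pr, hΨ, Category.comp_id, MonObj.comp_one, _root_.mul_one, lift_fst_snd, Category.id_comp]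
  obtain ⟨e, he⟩ : ∃ e : 𝟙_ (Over (Spec (CommRingCat.of k))) ⟶ E, e ≫ φ = t := by
    let pt : Spec (CommRingCat.of k) := IsLocalRing.closedPoint k
    haveI : JacobsonSpace E.left := LocallyOfFiniteType.jacobsonSpace E.hom
    haveI : IsClosedImmersion t.left := isClosedImmersion_of_comp_eq_id A.hom t.left (Over.w t)
    have hcl : IsClosed ({t.left pt} : Set A.left) := by
      have : Set.range t.left = {t.left pt} := Set.Subset.antisymm
        (by rintro _ ⟨z, rfl⟩; exact congrArg t.left (Subsingleton.elim (α := PrimeSpectrum k) z pt))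
        (Set.singleton_subset_iff.2 ⟨pt, rfl⟩)
      exact this ▸ t.left.isClosedEmbedding.isClosed_range
    obtain ⟨y, hy⟩ := φ.left.surjective (t.left pt)
    obtain ⟨z, hz, hzc⟩ := nonempty_inter_closedPoints (Z := φ.left ⁻¹' {t.left pt}) ⟨y, hy⟩
      (hcl.preimage φ.left.continuous).isLocallyClosed
    obtain ⟨e, rfl⟩ := OrbitTop19.exists_point E z hzc
    exact ⟨e, Over.OverMorphism.ext (ext_of_apply_closedPoint_eq A.hom (Over.w (e ≫ φ)) (Over.w t) hz)⟩
  refine ⟨⟨Ψ e, Ψ e⁻¹, by rw [hcomp, mul_inv_cancel, hone], by rw [hcomp, inv_mul_cancel, hone]⟩, ?_, ?_⟩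
  · show (G ◁ Ψ e) ≫ a.act = a.act ≫ Ψ e
    haveI : Epi (G ◁ pr) := by
      have h2 := (AbRigid.isPullback_whiskerLeft pr G).map (Over.forget _)
      haveI : Flat (G ◁ pr).left := MorphismProperty.of_isPullback h2 ‹Flat pr.left›
      haveI : Surjective (G ◁ pr).left := MorphismProperty.of_isPullback h2 ‹Surjective pr.left›
      haveI : QuasiCompact (G ◁ pr).left := MorphismProperty.of_isPullback h2 ‹QuasiCompact pr.left›
      exact AlgGrpBasic19.epi_of_cover _
    rw [← cancel_epi (G ◁ pr), ← MonoidalCategory.whiskerLeft_comp_assoc, hΨ]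
    have hwl : ∀ {T : Over (Spec (CommRingCat.of k))} (g : T ⟶ G) (x : T ⟶ X),
        (G ◁ (lift g x ≫ a.act)) ≫ a.act =
          lift (fst G T * (snd G T ≫ g)) (snd G T ≫ x) ≫ a.act := fun {T} g x => by
      rw [AlgGrpBasic19.act_mul]
      congr 1
      apply CartesianMonoidalCategory.hom_ext
      · simp
      · simp [← comp_lift_assoc]
    have h1 : (G ◁ pr) ≫ a.act =
        lift (fst G (G ⊗ E) * (snd G (G ⊗ E) ≫ fst G E)) (snd G (G ⊗ E) ≫ snd G E) ≫ pr := by
      rw [hpr, show pr = lift (fst G E) (snd G E ≫ σ) ≫ a.act by rw [← hpr, lift_fst_snd, Category.id_comp], hwl,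
        Category.assoc]
    rw [reassoc_of% h1, hΨ, ← Category.assoc, comp_lift, lift_fst, MonObj.comp_mul, lift_snd,
      ← Category.assoc _ (toUnit _), comp_toUnit, hpr, hpr, hwl]
    rw [← Category.assoc _ (snd G E * _) σ, MonObj.comp_mul, ← Category.assoc (snd G (G ⊗ E)) (toUnit _), comp_toUnit]
  · show Ψ e ≫ π = _
    rw [← cancel_epi pr, reassoc_of% hΨ e, hpb.w, lift_snd_assoc, MonObj.mul_comp, Category.assoc, he,
      ← Category.assoc π, comp_lift, Category.comp_id, ← Category.assoc π, comp_toUnit, ← Category.assoc, comp_lift,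
      hpb.w, ← Category.assoc pr, comp_toUnit, Hom.mul_def]

end Groth.Agent.AntiBundle15
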